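import Cfsg.Agent.SporadicA.J2Hundred
import Cfsg.Agent.J2.HundredGens
import Cfsg.Agent.S1619

/-!
# Two conjugate elements of order 3 generate `J2` (helper811, S4979)

`x` and `y = t x t⁻¹` on 100 points; the five generators of `SporadicA.J2Hundred.G` are words in `x`, `y`.
-/

set_option autoImplicit false

namespace Cfsg.Agent.H811.QA

open Equiv Subgroup Cfsg Cfsg.Agent.SporadicA.PermTab Cfsg.Agent.SporadicA.PermRank3 Cfsg.Agent.SporadicA.J2Data
open Cfsg.Agent.SporadicA.J2Hundred (inAll' sub pA pB pC pD pE gens)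

def tX : Nat := 0x8c0e81c82901e18c0800e0a80900d859054158198450580a00c05102e13c238620840542a83f0821782d8520240202686107a0c02405d06c1302003704c0ac1685f0920bc1080d0381280f8160760500e8440460e0128220321680981106a170300320b00681385009c14c170570620300503c0680781f0430040800004b0160180080900a01c01804
def tXi : Nat := 0xbc1302001d0681181e01e08a0882c01b0281582485b02c1102801809c05c2083a0100b81983d09a18c2a02801812c238390900341f810056188308260700ec0f80f0aa0700983e0640541a85306c15c300520320dc1285a04e0901880a05a0381482f0b20681185109e0b02502a04210c1005d0be1701801200e044020420040180180000202c02809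
/-- the conjugating element -/
def tQ : Nat := 0xaa0ec1d01609e0bc1f03f0c00982f05602e18c120450b60882f82b09812c2201a0360802684e09415c1181f0700d01c8350ba0d82e0410c20f4210370781882184004a0a40c81c0660a80e8140b41642a0300900a0160150a41182805104e1241082d03c0c42382e064160298180040180480300e0040200002202c070050240400980c01003c0680a
def tQi : Nat := 0xac0d81d85b0a21641f83d0a60ac1501608c1603182902a08c100210be1202484f09c11c0f0270320882a04d06a0e41e0340b81741d0370c4184208430700f82004205e05c0d0280bc0600e0250a00b81902603e1681985508a1480e84a08806c16830096130188140ae1801202c00a01c05806004024008040140000880301e0480400d02004c0700c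
/-- `y = t x t⁻¹` -/
def tY : Nat := 0xc61683104505c0782e04e0281840c05b05e1782b82105411c0480200e174120320980e41f8520900981184a03a0d41f04f00200c0d02807a108220060780701d00505a12c1881f0aa0ac1482c0be08019837086054268250c00c00b053044158138040680ec280170b21502305801a044078100240280400e0a2030058130800000d83608206424838
def tYi : Nat := 0xc61842d0230561582705d0b01880b8140aa07817816040120058190801701284b064110008470a40543003904e0e8018070921041d8370340d4250000500102101b052130188220ae17c1982c05c14c1683c03a1181204d08a07c2a02a0601782183600a0f4010590300841305b01003c090100220300980a0120382880d09e0e01a01c07c1401f806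

theorem iX : chkInv 100 tX tXi = true := by decide +kernel
theorem iQ : chkInv 100 tQ tQi = true := by decide +kernel

noncomputable def px : Perm (Fin 100) := mkPerm tX tXi iX
noncomputable def pt : Perm (Fin 100) := mkPerm tQ tQi iQ

theorem px_order : orderOf px = 3 := by
  have f3 : Fact (Nat.Prime 3) := ⟨by norm_num⟩
  have hc : allB (fun i => Nat.beq (lk tX (lk tX (lk tX i))) i) 100 = true := by decide +kernel
  have h0 : Nat.beq (lk tX 0) 0 = false := by decide +kernel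
  apply orderOf_eq_prime
  · ext i
    have h1 := Nat.eq_of_beq_eq_true ((allB_iff _ _).1 hc i i.2)
    exact h1
  · intro h1
    have h2 := congrArg (fun g : Perm (Fin 100) => (g 0 : ℕ)) h1
    have h3 : lk tX 0 = 0 := h2
    rw [h3] at h0
    exact absurd h0 (by decide)

/-- the Hall–Janko group on 100 points -/
abbrev H : Subgroup (Perm (Fin 100)) := Cfsg.Agent.SporadicA.J2Hundred.G

theorem eq_of_val {g g' : Perm (Fin 100)} (h : ∀ i : Fin 100, (g i : ℕ) = (g' i : ℕ)) : g = g' := by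
  ext i; exact h i

theorem mem_of_inG {K : Subgroup (Perm (Fin 100))} {P : ℕ} (h : InG K P) {g : Perm (Fin 100)}
    (hg : ∀ i, (g i : ℕ) = lk P i) : g ∈ K := by
  obtain ⟨k, hk, hk'⟩ := h
  have : g = k := eq_of_val fun i => (hg i).trans (hk' i).symm
  rw [this]
  exact hk

theorem px_mem : px ∈ H :=
  mem_of_inG (InG.word (inAll' (L := [tD, tC, tD, tA, tB, tA]) (by decide +kernel)) (by decide +kernel)) fun _ => rfl

theorem pt_mem : pt ∈ H :=
  mem_of_inG (InG.word (inAll' (L := [tA, tB, tE, tC, tB]) (by decide +kernel)) (by decide +kernel)) fun _ => rfl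

/-- the letters -/
def ltr : ℕ → ℕ
  | 0 => tX
  | 1 => tXi
  | 2 => tY
  | _ => tYi

theorem inLtr {K : Subgroup (Perm (Fin 100))} (hx : px ∈ K) (hy : pt * px * pt⁻¹ ∈ K) (j : ℕ) : InG K (ltr j) := by
  rcases j with _ | _ | _ | j
  · exact ⟨px, hx, fun _ => rfl⟩
  · exact ⟨px⁻¹, inv_mem hx, fun _ => rfl⟩
  · have h : allB (fun i => Nat.beq (lk tQ (lk tX (lk tQi i))) (lk tY i)) 100 = true := by decide +kernel
    exact ⟨_, hy, fun i => Nat.eq_of_beq_eq_true ((allB_iff _ _).1 h i i.2)⟩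
  · have h : allB (fun i => Nat.beq (lk tQ (lk tXi (lk tQi i))) (lk tYi i)) 100 = true := by decide +kernel
    refine ⟨_, inv_mem hy, fun i => ?_⟩
    have e : (pt * px * pt⁻¹)⁻¹ = pt * px⁻¹ * pt⁻¹ := by group
    rw [e]
    exact Nat.eq_of_beq_eq_true ((allB_iff _ _).1 h i i.2)

theorem inWord {K : Subgroup (Perm (Fin 100))} (hx : px ∈ K) (hy : pt * px * pt⁻¹ ∈ K) (w : List ℕ) {P : ℕ}
    (h : chkWord 100 P (w.map ltr) = true) : InG K P := by
  refine InG.word (fun Q hQ => ?_) h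
  obtain ⟨j, -, rfl⟩ := List.mem_map.1 hQ
  exact inLtr hx hy j

theorem le_of_mem {K : Subgroup (Perm (Fin 100))} (hx : px ∈ K) (hy : pt * px * pt⁻¹ ∈ K) : H ≤ K := by
  have hA : pA ∈ K := mem_of_inG (inWord hx hy [0, 2, 0, 2, 0, 2, 1, 2, 0, 2, 0, 2, 1, 2, 0, 2, 0, 2, 0] (by decide +kernel)) fun _ => rfl
  have hB : pB ∈ K := mem_of_inG (inWord hx hy [0, 2, 0, 3, 1, 3, 1, 2, 1, 2, 0, 3, 1, 3, 0] (by decide +kernel)) fun _ => rfl
  have hC : pC ∈ K := mem_of_inG (inWord hx hy [0, 3, 0, 3, 1, 2, 0, 3, 1, 3, 1, 2, 1, 2, 0, 3, 0, 2, 1, 2] (by decide +kernel)) fun _ => rfl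
  have hD : pD ∈ K := mem_of_inG (inWord hx hy [2, 0, 2, 0, 2, 1, 2, 1, 3, 1, 3, 1, 3, 0, 3, 1, 2, 1, 3] (by decide +kernel)) fun _ => rfl
  have hE : pE ∈ K := mem_of_inG (inWord hx hy [0, 3, 0, 3, 0, 2, 1, 2, 1, 2, 0, 3, 1, 2, 0, 2] (by decide +kernel)) fun _ => rfl
  refine (closure_le K).2 ?_
  rintro g (rfl | rfl | rfl | rfl | rfl)
  exacts [hA, hB, hC, hD, hE]

theorem gen_H : closure ({(⟨px, px_mem⟩ : H), ⟨pt, pt_mem⟩ * ⟨px, px_mem⟩ * (⟨pt, pt_mem⟩ : H)⁻¹} : Set H) = ⊤ := by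
  obtain ⟨K, hK⟩ : ∃ K : Subgroup H, K = closure ({(⟨px, px_mem⟩ : H),
    ⟨pt, pt_mem⟩ * ⟨px, px_mem⟩ * (⟨pt, pt_mem⟩ : H)⁻¹} : Set H) := ⟨_, rfl⟩
  rw [← hK]
  have hx : (⟨px, px_mem⟩ : H) ∈ K := by rw [hK]; exact subset_closure (Or.inl rfl)
  have hy : ⟨pt, pt_mem⟩ * ⟨px, px_mem⟩ * (⟨pt, pt_mem⟩ : H)⁻¹ ∈ K := by rw [hK]; exact subset_closure (Or.inr rfl)
  have h1 : H ≤ K.map H.subtype := le_of_mem ⟨_, hx, rfl⟩ ⟨_, hy, rfl⟩
  rw [eq_top_iff]
  intro g _
  obtain ⟨k, hk, hkg⟩ := h1 g.2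
  have : k = g := Subtype.ext hkg
  rw [← this]
  exact hk

/-- **two conjugate elements of order 3 generate `J2`** -/
theorem j2_gen : ∃ x t : Spor.J2, orderOf x = 3 ∧ Subgroup.closure ({x, t * x * t⁻¹} : Set Spor.J2) = ⊤ := by
  obtain ⟨ψ⟩ := Cfsg.Agent.J2.HundredGens.J2_iso Cfsg.Agent.S1619.result.2.2.2
  refine ⟨ψ.symm ⟨px, px_mem⟩, ψ.symm ⟨pt, pt_mem⟩, ?_, ?_⟩
  · rw [MulEquiv.orderOf_eq, Subgroup.orderOf_mk, px_order]
  · have h1 := congrArg (Subgroup.map ψ.symm.toMonoidHom) gen_H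
    rw [MonoidHom.map_closure, Set.image_pair, map_mul, map_mul, map_inv] at h1
    rw [Subgroup.map_top_of_surjective _ ψ.symm.surjective] at h1
    exact h1

end Cfsg.Agent.H811.QA
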